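set_option autoImplicit false
namespace Cfsg.Agent.Lib.Helper6.TCD.Fi23U4
noncomputable def WI (i : Nat) : Nat := Nat.land (Nat.shiftRight 0x8a000500226001300890004802220011008800040021e000f008700038021a000d0086000300216000b00850002802120009008400020020e0007008300018000a000400018000800020000 (Nat.mul 17 (Nat.land i 255))) 131071
end Cfsg.Agent.Lib.Helper6.TCD.Fi23U4
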