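import Cfsg.Agent.Lib.Helper6.TCD.Fi23U4.SH
import Cfsg.Agent.Lib.Helper6.TCD.Fi23U4.SC
import Cfsg.Agent.Lib.Helper6.TCD.Fi23U4.NH
import Cfsg.Agent.Lib.Helper6.TCD.Fi23U4.NC
import Cfsg.Agent.Lib.Helper6.TCD.Fi23U4.WD
import Cfsg.Agent.Lib.Helper6.TCD.Fi23U4.WI
set_option autoImplicit false
namespace Cfsg.Agent.Lib.Helper6.TCD.Fi23U4
def n : Nat := 27
def ncol : Nat := 6
def nrw : Nat := 36
def nw : Nat := 41
def tmax : Nat := 162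
def INV : Nat := 5517840
def N : Nat := 27
end Cfsg.Agent.Lib.Helper6.TCD.Fi23U4
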