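set_option autoImplicit false
namespace Cfsg.Agent.Lib.Helper6.TCD.Fi23U4
noncomputable def SH (i : Nat) : Nat := Nat.land (Nat.shiftRight 0x508000d00009c000190001400003400027c000680004f0000d00009d0001a0001340003200026c000680004b0000c000099000190001300003200025c000640004a0000c0000930001800012a000320002400005c000490000c000091000180001120002a0002380005c000468000b80008f000180001160002c0002280005c00041000098000870001600010c0002c00021400058000460000b800083000140001100002e000200000540003f8000a80007e000150000f8000260001f4000540003b0000900007a000140000f2000280001e0000500003b8000a000084000160001020002c0001d00004c0003980009800070000110000f60002a0001c4000480003a8000a00006e000120000da000240001ac000400003600009000072000130000d2000220001a000044000320000780006f000130000ce00022000194000400003100008000061000100000bc000180001a8000480002f80006800066000110000b80001e0001680003800031800088000590000f0000b00001e00015c000300002a8000700005b0000f0000a80001c00014c0003800029000070000510000b00009e0001a00013800034000258000500004d0000d0000c0000200001300003400024800060000470000b0000ba000200001180003000022800050000560000f000086000160001200003000021000058000410000b00008000012000140000380001f0000500003c000090000940001a0000e800020000220000600003b0000a000070000120000f4000280001b800048000350000700007e000160000d800024000170000300003200007000062000100000e400028000180000400002f00008000050000080000cc000200001580002800034000090000540000e0000a40001c00016800040000220000400004c0000c000094000180001200003000023000060000380000600008000014000160000380001f0000500003c0000a0000740001400013800038000210000600002e00006000068000100000c80002000018000040000360000a0000540000c0000b00002000012000020000280000600004c0000c000080000100000f0000200001c000040000440000c000060000080000d00002000014000020000240000400004000008000070000100001600004000018000000000200000000003000000000040000000000400000000000000000000500001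 (Nat.mul 43 (Nat.land i 1023))) 8796093022207
end Cfsg.Agent.Lib.Helper6.TCD.Fi23U4
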